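import Mathlib
import Cfsg.Agent.H575.SN.PslA
import Cfsg.Agent.H95.SN.Crit

/-!
# S3831, C1a: `PSL_n(q)`, `n ≥ 3`, `q ≥ 4`, characteristic not three (helper575)
-/

set_option autoImplicit false

namespace Cfsg.Agent.H575.SN

open Cfsg Cfsg.Agent.H21.SN

/-- **S3831, C1a.** -/
theorem C1a {K : Type} [Group K] [Finite K] {r : ℕ} [Fact r.Prime] (hr : r ≠ 3) {F : Type} [Field F] [Fintype F]
    [CharP F r] {n : ℕ} (hn : 3 ≤ n) (hq : 4 ≤ Fintype.card F)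
    (e : Nonempty (K ≃* Matrix.ProjectiveSpecialLinearGroup (Fin n) F)) : G3 K :=
  c1a_of (fun h => Cfsg.Agent.H95.SN.noS3_of_sylow3 h) hr hn hq e

end Cfsg.Agent.H575.SN
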